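import Groth.Agent.QuotLib.Props

/-!
# Being a quotient is local on the target
-/

noncomputable section

universe u

open CategoryTheory CategoryTheory.Limits AlgebraicGeometry TopologicalSpace Opposite
open Groth.Agent.ProjQuot (isQuot_of_basis appLE_restrict)

namespace QuotLib

variable {X Y : Scheme.{u}} {G : Type u} [Group G] {ρ : G →* Aut X} {p : X ⟶ Y}

/-- Being a quotient is local on the target. -/
theorem isQuot_of_cover (hinv : ∀ g : G, (ρ g).hom ≫ p = p) {ι : Type*} (U : ι → Y.Opens)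
    (hU : ∀ y, ∃ i, y ∈ U i) (h : ∀ i, SGA1.IsQuot (restrictAct hinv (U i)) (p ∣_ U i)) :
    SGA1.IsQuot ρ p := by
  have hbij : ∀ (A B : X.Opens) (e : A = B), Function.Bijective (X.presheaf.map (eqToHom e).op).hom :=
    fun A B e => ConcreteCategory.bijective_of_isIso _
  refine isQuot_of_basis {W | ∃ i, W ≤ U i} ?_ ?_ ?_ hinv ?_ ?_
  · refine Opens.isBasis_iff_nbhd.2 fun {W x} hx => ?_
    obtain ⟨i, hi⟩ := hU x
    exact ⟨W ⊓ U i, ⟨i, inf_le_right⟩, ⟨hx, hi⟩, inf_le_left⟩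
  · rintro V ⟨i, hi⟩ W -
    exact ⟨i, inf_le_left.trans hi⟩
  · exact IsZariskiLocalAtTarget.of_iSup_eq_top (P := @IsAffineHom) U
      (eq_top_iff.2 fun y _ => Opens.mem_iSup.2 (hU y)) fun i => (h i).affine
  · rintro W ⟨i, hi⟩
    obtain ⟨W', rfl⟩ : ∃ W' : (U i).toScheme.Opens, (U i).ι ''ᵁ W' = W :=
      ⟨(U i).ι ⁻¹ᵁ W, by rw [Scheme.Hom.image_preimage_eq_opensRange_inf, Scheme.Opens.opensRange_ι, inf_eq_right.2 hi]⟩
    intro s t hst
    apply (h i).injective W'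
    rw [morphismRestrict_app]
    exact congrArg (X.presheaf.map (eqToHom (image_morphismRestrict_preimage p (U i) W')).op).hom hst
  · rintro W ⟨i, hi⟩
    obtain ⟨W', rfl⟩ : ∃ W' : (U i).toScheme.Opens, (U i).ι ''ᵁ W' = W :=
      ⟨(U i).ι ⁻¹ᵁ W, by rw [Scheme.Hom.image_preimage_eq_opensRange_inf, Scheme.Opens.opensRange_ι, inf_eq_right.2 hi]⟩
    intro s hs
    have e : (p ⁻¹ᵁ U i).ι ''ᵁ ((p ∣_ U i) ⁻¹ᵁ W') = p ⁻¹ᵁ ((U i).ι ''ᵁ W') :=
      image_morphismRestrict_preimage p (U i) W'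
    obtain ⟨t, ht⟩ := ((h i).range_iff W' ((X.presheaf.map (eqToHom e).op).hom s)).2 fun g => by
      have hle : (p ⁻¹ᵁ U i).ι ''ᵁ ((p ∣_ U i) ⁻¹ᵁ W') ≤
          (ρ g).hom ⁻¹ᵁ ((p ⁻¹ᵁ U i).ι ''ᵁ ((p ∣_ U i) ⁻¹ᵁ W')) := by
        rw [e]; exact SGA1.preimage_le_of_inv ρ p hinv g _
      rw [appLE_of_lift (ρ g).hom (restrictAct hinv (U i) g).hom (restrictAct_ι hinv (U i) g) _ _ hle]
      refine (appLE_restrict (ρ g).hom (SGA1.preimage_le_of_inv ρ p hinv g _) hle e.le s).trans ?_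
      rw [hs g]
      rfl
    refine ⟨t, (hbij _ _ e).1 ?_⟩
    rw [← ht, morphismRestrict_app]
    rfl

end QuotLib
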