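import Groth.Agent.QuotLib.Sep
import Groth.Agent.QuotLib.Local
import Mathlib.AlgebraicGeometry.Morphisms.Affine
import Mathlib.RingTheory.Ideal.Operations

/-!
# Existence of quotients by finite groups when orbits lie in affine opens
-/

noncomputable section

universe u

open CategoryTheory CategoryTheory.Limits AlgebraicGeometry TopologicalSpace

namespace QuotLib

variable {X : Scheme.{u}}

/-- Prime avoidance: a finite subset of an open inside an affine open lies in an affine basic open inside it. -/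
theorem exists_basicOpen_of_finite {U W : X.Opens} (hU : IsAffineOpen U) (hW : W ≤ U) (s : Set X)
    (hs : s.Finite) (hsW : s ⊆ W) : ∃ f : Γ(X, U), X.basicOpen f ≤ W ∧ s ⊆ X.basicOpen f := by
  classical
  have hr := hU.range_fromSpec
  choose q hq using fun x : hs.toFinset =>
    show ∃ q, hU.fromSpec q = x.1 from hr.ge (hW (hsW (hs.mem_toFinset.1 x.2)))
  obtain ⟨I, hI⟩ := (PrimeSpectrum.isClosed_iff_zeroLocus_ideal ((hU.fromSpec ⁻¹ᵁ W : Set (Spec Γ(X, U)))ᶜ)).1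
    (hU.fromSpec ⁻¹ᵁ W).isOpen.isClosed_compl
  have hnot : ∀ x : hs.toFinset, ¬ I ≤ (q x).asIdeal := fun x hle => by
    have h1 : q x ∈ PrimeSpectrum.zeroLocus (I : Set Γ(X, U)) := hle
    exact (Set.ext_iff.1 hI (q x)).2 h1 (by
      show hU.fromSpec (q x) ∈ W
      rw [hq]; exact hsW (hs.mem_toFinset.1 x.2))
  have : ¬ (I : Set Γ(X, U)) ⊆ ⋃ x ∈ (↑(Finset.univ : Finset hs.toFinset) : Set hs.toFinset), ((q x).asIdeal : Set Γ(X, U)) := by
    intro h
    obtain h0 | ⟨⟨x⟩⟩ := (Finset.univ : Finset hs.toFinset).eq_empty_or_nonempty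
    · rw [h0] at h
      simpa using h I.zero_mem
    · obtain ⟨i, -, hi⟩ := (Ideal.subset_union_prime x x fun i _ _ _ => (q i).isPrime).1 h
      exact hnot i hi
  obtain ⟨f, hfI, hf⟩ := Set.not_subset.1 this
  refine ⟨f, ?_, fun x hx => ?_⟩
  · rw [← hU.fromSpec_image_basicOpen f]
    rintro _ ⟨z, hz, rfl⟩
    by_contra hzW
    have h1 : z ∈ PrimeSpectrum.zeroLocus (I : Set Γ(X, U)) := (Set.ext_iff.1 hI z).1 hzW
    exact hz (h1 hfI)
  · rw [SetLike.mem_coe, ← hU.fromSpec_image_basicOpen f]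
    exact ⟨q ⟨x, hs.mem_toFinset.2 hx⟩, fun hmem => hf (Set.mem_iUnion₂.2 ⟨_, by simp, hmem⟩), hq _⟩

theorem isAffineOpen_iInf [IsAffine X] {ι : Type*} [Finite ι] (V : ι → X.Opens)
    (hV : ∀ i, IsAffineOpen (V i)) : IsAffineOpen (⨅ i, V i) := by
  classical
  haveI := Fintype.ofFinite ι
  have : ∀ s : Finset ι, IsAffineOpen (⨅ i ∈ s, V i) := fun s => by
    induction s using Finset.induction_on with
    | empty => simpa using isAffineOpen_top X
    | insert a s ha ih => rw [Finset.iInf_insert]; exact (hV a).inf ih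
  simpa using this Finset.univ

variable {G : Type u} [Group G] (ρ : G →* Aut X)

theorem act_mul (g h : G) : (ρ (g * h)).hom = (ρ h).hom ≫ (ρ g).hom := by rw [map_mul]; rfl

theorem act_one : (ρ 1).hom = 𝟙 X := by rw [map_one]; rfl

theorem act_act (g h : G) (x : X) : (ρ g).hom ((ρ h).hom x) = (ρ (g * h)).hom x := by
  rw [act_mul]; rfl

/-- Invariant affine opens. -/
def InvAff : Type u := {T : X.Opens // IsAffineOpen T ∧ ∀ (g : G), ∀ x ∈ T, (ρ g).hom x ∈ T}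

instance : PartialOrder (InvAff ρ) := PartialOrder.lift (fun T : InvAff ρ => T.1) fun _ _ h => Subtype.ext h

theorem exists_invAff [Finite G] {U W : X.Opens} (hU : IsAffineOpen U) (hW : W ≤ U) (x : X)
    (hx : ∀ g, (ρ g).hom x ∈ W) (hWinv : ∀ (g : G), ∀ y ∈ W, (ρ g).hom y ∈ W) :
    ∃ T : InvAff ρ, x ∈ T.1 ∧ T.1 ≤ W := by
  obtain ⟨f, hfW, hfx⟩ := exists_basicOpen_of_finite hU hW (Set.range fun g => (ρ g).hom x)
    (Set.finite_range _) (Set.range_subset_iff.2 hx)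
  have hD : ∀ g : G, (ρ g).hom ⁻¹ᵁ X.basicOpen f ≤ W := fun g y hy => by
    have := hWinv g⁻¹ _ (hfW hy)
    rwa [act_act, inv_mul_cancel, act_one] at this
  haveI : IsAffine U.toScheme := hU
  let V : G → U.toScheme.Opens := fun g => U.ι ⁻¹ᵁ ((ρ g).hom ⁻¹ᵁ X.basicOpen f)
  have hV : ∀ g, IsAffineOpen (V g) := fun g => by
    rw [← U.ι.isAffineOpen_iff_of_isOpenImmersion, Scheme.Hom.image_preimage_eq_opensRange_inf,
      Scheme.Opens.opensRange_ι, inf_eq_right.2 ((hD g).trans hW)]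
    haveI : IsIso (ρ g).hom := Iso.isIso_hom (ρ g)
    exact (hU.basicOpen f).preimage_of_isIso _
  have hself : ∀ y : X, (∀ g : G, (ρ g).hom y ∈ X.basicOpen f) → y ∈ X.basicOpen f := fun y h => by
    have := h 1
    rwa [act_one] at this
  have hmem : ∀ y : X, y ∈ U.ι ''ᵁ (⨅ g, V g) ↔ ∀ g : G, (ρ g).hom y ∈ X.basicOpen f := by
    intro y
    refine ⟨?_, fun h => ⟨⟨y, hW (hfW (hself y h))⟩, ?_, rfl⟩⟩
    · rintro ⟨z, hz, rfl⟩ g
      exact iInf_le V g hz
    · rw [Opens.coe_iInf]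
      exact Set.mem_iInter.2 h
  refine ⟨⟨U.ι ''ᵁ (⨅ g, V g), U.ι.isAffineOpen_iff_of_isOpenImmersion.2 (isAffineOpen_iInf V hV), fun g y hy => ?_⟩,
    (hmem x).2 fun g => hfx ⟨g, rfl⟩, fun y hy => hfW (hself y ((hmem y).1 hy))⟩
  exact (hmem _).2 fun h => by rw [act_act]; exact (hmem y).1 hy _

variable {ρ}

theorem InvAff.lift_mem (T : InvAff ρ) (g : G) :
    Set.range (T.1.ι ≫ (ρ g).hom) ⊆ Set.range T.1.ι := by
  rintro _ ⟨x, rfl⟩
  rw [Scheme.Opens.range_ι]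
  exact T.2.2 g x.1 x.2

def InvAff.act (T : InvAff ρ) : G →* Aut T.1.toScheme :=
  let f : G → (T.1.toScheme ⟶ T.1.toScheme) := fun g =>
    IsOpenImmersion.lift T.1.ι (T.1.ι ≫ (ρ g).hom) (T.lift_mem g)
  have hf : ∀ g, f g ≫ T.1.ι = T.1.ι ≫ (ρ g).hom := fun g => IsOpenImmersion.lift_fac _ _ _
  have hmul : ∀ g h, f (g * h) = f h ≫ f g := fun g h => by
    rw [← cancel_mono T.1.ι, hf, Category.assoc, hf, ← Category.assoc, hf, act_mul, Category.assoc]
  have hone : f 1 = 𝟙 _ := by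
    rw [← cancel_mono T.1.ι, hf, Category.id_comp, act_one]
    exact Category.comp_id _
  { toFun := fun g => ⟨f g, f g⁻¹, by rw [← hmul, inv_mul_cancel, hone], by rw [← hmul, mul_inv_cancel, hone]⟩
    map_one' := Iso.ext hone
    map_mul' := fun g h => Iso.ext (hmul g h) }

theorem InvAff.act_ι (T : InvAff ρ) (g : G) : (T.act g).hom ≫ T.1.ι = T.1.ι ≫ (ρ g).hom :=
  IsOpenImmersion.lift_fac _ _ _

theorem InvAff.act_val (T : InvAff ρ) (g : G) (x : T.1.toScheme) : ((T.act g).hom x).1 = (ρ g).hom x.1 :=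
  congr($(InvAff.act_ι T g) x)

theorem InvAff.homOfLE_val {T T' : InvAff ρ} (h : T ≤ T') (x : T.1.toScheme) :
    (X.homOfLE (U := T.1) (V := T'.1) h x).1 = x.1 := Scheme.homOfLE_apply (X := X) (U := T.1) (V := T'.1) h x

theorem InvAff.isAffine (T : InvAff ρ) : IsAffine T.1.toScheme := T.2.1

variable [Finite G]

theorem InvAff.exists_quot (T : InvAff ρ) :
    ∃ (Y : Scheme.{u}) (p : T.1.toScheme ⟶ Y), IsAffine Y ∧ SGA1.IsQuot T.act p :=
  haveI := T.isAffine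
  exists_affine_quot T.act

def InvAff.Q (T : InvAff ρ) : Scheme.{u} := T.exists_quot.choose
def InvAff.q (T : InvAff ρ) : T.1.toScheme ⟶ T.Q := T.exists_quot.choose_spec.choose
instance InvAff.isAffine_Q (T : InvAff ρ) : IsAffine T.Q := T.exists_quot.choose_spec.choose_spec.1
theorem InvAff.isQuot (T : InvAff ρ) : SGA1.IsQuot T.act T.q := T.exists_quot.choose_spec.choose_spec.2

theorem InvAff.act_homOfLE {T T' : InvAff ρ} (h : T ≤ T') (g : G) :
    (T.act g).hom ≫ X.homOfLE (U := T.1) (V := T'.1) h = X.homOfLE (U := T.1) (V := T'.1) h ≫ (T'.act g).hom := by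
  rw [← cancel_mono T'.1.ι, Category.assoc, Scheme.homOfLE_ι, InvAff.act_ι, Category.assoc, InvAff.act_ι,
    Scheme.homOfLE_ι_assoc]

theorem InvAff.exists_map {T T' : InvAff ρ} (h : T ≤ T') :
    ∃ m : T.Q ⟶ T'.Q, T.q ≫ m = X.homOfLE (U := T.1) (V := T'.1) h ≫ T'.q :=
  exists_desc T.isQuot _ fun g => by
    rw [← Category.assoc, InvAff.act_homOfLE h, Category.assoc, T'.isQuot.inv]

def InvAff.map {T T' : InvAff ρ} (h : T ≤ T') : T.Q ⟶ T'.Q := (InvAff.exists_map h).choose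

theorem InvAff.q_map {T T' : InvAff ρ} (h : T ≤ T') :
    T.q ≫ InvAff.map h = X.homOfLE (U := T.1) (V := T'.1) h ≫ T'.q :=
  (InvAff.exists_map h).choose_spec

variable (ρ) in
/-- The diagram of local quotients. -/
def quotDiagram : InvAff ρ ⥤ Scheme.{u} where
  obj T := T.Q
  map h := InvAff.map (leOfHom h)
  map_id T := hom_ext T.isQuot (by rw [InvAff.q_map, Scheme.homOfLE_rfl, Category.id_comp, Category.comp_id])
  map_comp {T T' T''} h h' := hom_ext T.isQuot (by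
    rw [InvAff.q_map, ← Category.assoc, InvAff.q_map, Category.assoc, InvAff.q_map, Scheme.homOfLE_homOfLE_assoc])

theorem InvAff.isOpenImmersion_map {T T' : InvAff ρ} (h : T ≤ T') : IsOpenImmersion (InvAff.map h) := by
  let a := X.homOfLE (U := T.1) (V := T'.1) h
  have hsat : T'.q ⁻¹' (T'.q '' Set.range a) = Set.range a := by
    refine (Set.subset_preimage_image _ _).antisymm' ?_
    rintro z ⟨_, ⟨w, rfl⟩, e⟩
    obtain ⟨g, rfl⟩ := (orbit_iff T'.isQuot _ _).1 e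
    exact ⟨(T.act g).hom w, by
      rw [← Scheme.Hom.comp_apply, ← Scheme.Hom.comp_apply, InvAff.act_homOfLE]⟩
  let O : T'.Q.Opens := ⟨T'.q '' Set.range a, by
    rw [← (isQuotientMap T'.isQuot).isOpen_preimage, hsat]
    exact a.isOpenEmbedding.isOpen_range⟩
  have hO : T'.q ⁻¹ᵁ O = a.opensRange := Opens.ext hsat
  have hr : Set.range a ⊆ Set.range (T'.q ⁻¹ᵁ O).ι := by
    rw [Scheme.Opens.range_ι, hO]; rfl
  let a' := IsOpenImmersion.lift (T'.q ⁻¹ᵁ O).ι a hr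
  have hr' : Set.range (T'.q ⁻¹ᵁ O).ι ⊆ Set.range a := by
    rw [Scheme.Opens.range_ι, hO]; rfl
  let a'' := IsOpenImmersion.lift a (T'.q ⁻¹ᵁ O).ι hr'
  have h1 : a' ≫ a'' = 𝟙 _ := by
    rw [← cancel_mono a, Category.assoc, IsOpenImmersion.lift_fac, IsOpenImmersion.lift_fac, Category.id_comp]
  have h2 : a'' ≫ a' = 𝟙 _ := by
    rw [← cancel_mono (T'.q ⁻¹ᵁ O).ι, Category.assoc, IsOpenImmersion.lift_fac, IsOpenImmersion.lift_fac,
      Category.id_comp]
  have he : ∀ g, (T.act g).hom ≫ a' = a' ≫ (restrictAct T'.isQuot.inv O g).hom := fun g => by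
    rw [← cancel_mono (T'.q ⁻¹ᵁ O).ι, Category.assoc, Category.assoc, restrictAct_ι, IsOpenImmersion.lift_fac,
      IsOpenImmersion.lift_fac_assoc]
    exact InvAff.act_homOfLE h g
  have hOq := isQuot_restrictAct T'.isQuot O
  obtain ⟨m, hm⟩ := exists_desc T.isQuot (a' ≫ (T'.q ∣_ O)) fun g => by
    rw [← Category.assoc, he, Category.assoc, hOq.inv]
  obtain ⟨n, hn⟩ := exists_desc hOq (a'' ≫ T.q) fun g => by
    have : (restrictAct T'.isQuot.inv O g).hom ≫ a'' = a'' ≫ (T.act g).hom := by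
      calc _ = a'' ≫ (a' ≫ (restrictAct T'.isQuot.inv O g).hom) ≫ a'' := by
            rw [← Category.assoc, ← Category.assoc, h2, Category.id_comp]
        _ = _ := by rw [← he, Category.assoc, h1, Category.comp_id]
    rw [← Category.assoc, this, Category.assoc, T.isQuot.inv]
  haveI : IsIso m := ⟨n, hom_ext T.isQuot (by rw [reassoc_of% hm, hn, reassoc_of% h1, Category.comp_id]),
    hom_ext hOq (by rw [reassoc_of% hn, hm, reassoc_of% h2, Category.comp_id])⟩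
  have : InvAff.map h = m ≫ O.ι := hom_ext T.isQuot (by
    rw [InvAff.q_map, reassoc_of% hm, morphismRestrict_ι, IsOpenImmersion.lift_fac_assoc])
  rw [this]
  infer_instance

instance {T T' : InvAff ρ} (h : T ⟶ T') : IsOpenImmersion ((quotDiagram ρ).map h) :=
  InvAff.isOpenImmersion_map (leOfHom h)

theorem InvAff.map_q_apply {T T' : InvAff ρ} (h : T ≤ T') (x : T.1.toScheme) :
    InvAff.map h (T.q x) = T'.q (X.homOfLE (U := T.1) (V := T'.1) h x) := by
  rw [← Scheme.Hom.comp_apply, InvAff.q_map]; rfl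

theorem InvAff.orbit_val {T : InvAff ρ} {x x' : T.1.toScheme} (h : T.q x = T.q x') :
    ∃ g : G, (ρ g).hom x.1 = x'.1 := by
  obtain ⟨g, rfl⟩ := (orbit_iff T.isQuot x x').1 h
  exact ⟨g, congr($(InvAff.act_ι T g) x).symm⟩

instance isLocallyDirected_quotDiagram : (quotDiagram ρ ⋙ Scheme.forget).IsLocallyDirected where
  cond {T S R} fT fS yT yS e := by
    obtain ⟨t, rfl⟩ := surjective T.isQuot yT
    obtain ⟨s, rfl⟩ := surjective S.isQuot yS
    have e' : InvAff.map (leOfHom fT) (T.q t) = InvAff.map (leOfHom fS) (S.q s) := e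
    rw [InvAff.map_q_apply, InvAff.map_q_apply] at e'
    obtain ⟨g, hg⟩ := InvAff.orbit_val e'
    rw [InvAff.homOfLE_val, InvAff.homOfLE_val] at hg
    have hsT : s.1 ∈ T.1 := hg ▸ T.2.2 g t.1 t.2
    obtain ⟨V, hsV, hV⟩ := exists_invAff ρ T.2.1 (inf_le_left : T.1 ⊓ S.1 ≤ T.1) s.1
      (fun h => ⟨T.2.2 h _ hsT, S.2.2 h _ s.2⟩) fun h y hy => ⟨T.2.2 h y hy.1, S.2.2 h y hy.2⟩
    have hVT : V ≤ T := hV.trans inf_le_left
    have hVS : V ≤ S := hV.trans inf_le_right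
    refine ⟨V, homOfLE hVT, homOfLE hVS, V.q ⟨s.1, hsV⟩, ?_, ?_⟩
    · show InvAff.map hVT (V.q ⟨s.1, hsV⟩) = T.q t
      refine (InvAff.map_q_apply hVT ⟨s.1, hsV⟩).trans ?_
      refine ((orbit_iff T.isQuot _ _).2 ⟨g, Subtype.ext ?_⟩).symm
      exact (InvAff.act_val T g t).trans (hg.trans (InvAff.homOfLE_val hVT ⟨s.1, hsV⟩).symm)
    · show InvAff.map hVS (V.q ⟨s.1, hsV⟩) = S.q s
      refine (InvAff.map_q_apply hVS ⟨s.1, hsV⟩).trans ?_
      exact congrArg S.q (Subtype.ext (InvAff.homOfLE_val hVS ⟨s.1, hsV⟩))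

theorem exists_quot (h : ∀ x : X, ∃ U : X.Opens, IsAffineOpen U ∧ ∀ g : G, (ρ g).hom x ∈ U) :
    ∃ (Y : Scheme.{u}) (p : X ⟶ Y), SGA1.IsQuot ρ p := by
  have hnbhd : ∀ x : X, ∃ T : InvAff ρ, x ∈ T.1 := fun x => by
    obtain ⟨U, hU, hx⟩ := h x
    let W : X.Opens := ⟨⋂ g : G, (ρ g).hom ⁻¹' U, isOpen_iInter_of_finite fun g => U.2.preimage (ρ g).hom.continuous⟩
    obtain ⟨T, hT, -⟩ := exists_invAff ρ hU (W := W)
      (fun y hy => by have := Set.mem_iInter.1 hy 1; rwa [Set.mem_preimage, act_one] at this) x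
      (fun g => Set.mem_iInter.2 fun g' => by rw [Set.mem_preimage, act_act]; exact hx _)
      (fun g y hy => Set.mem_iInter.2 fun g' => by
        rw [Set.mem_preimage, act_act]; exact Set.mem_iInter.1 hy _)
    exact ⟨T, hT⟩
  let Y := colimit (quotDiagram ρ)
  let ι : ∀ T : InvAff ρ, T.Q ⟶ Y := fun T => colimit.ι (quotDiagram ρ) T
  haveI hι : ∀ T, IsOpenImmersion (ι T) := fun T => inferInstanceAs (IsOpenImmersion (colimit.ι (quotDiagram ρ) T))
  have hw : ∀ {V T : InvAff ρ} (h : V ≤ T),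
      V.q ≫ ι V = X.homOfLE (U := V.1) (V := T.1) h ≫ T.q ≫ ι T := fun {V T} h => by
    rw [← reassoc_of% InvAff.q_map h]
    exact congrArg _ (colimit.w (quotDiagram ρ) (homOfLE h)).symm
  have hcov : ∀ x : X, ∃ T : InvAff ρ, x ∈ T.1 := hnbhd
  let 𝒰 := X.openCoverOfIsOpenCover (fun T : InvAff ρ => T.1)
    (IsOpenCover.mk (eq_top_iff.2 fun x _ => Opens.mem_iSup.2 (hcov x)))
  let p : X ⟶ Y := 𝒰.glueMorphisms (fun T => InvAff.q T ≫ ι T) fun T S => by
    show pullback.fst T.1.ι S.1.ι ≫ T.q ≫ ι T = pullback.snd T.1.ι S.1.ι ≫ S.q ≫ ι S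
    let k := pullback.fst T.1.ι S.1.ι ≫ T.1.ι
    have hk : ∀ z, k z ∈ T.1 ⊓ S.1 := fun z => ⟨(pullback.fst T.1.ι S.1.ι z).2, by
      show k z ∈ S.1
      simp only [k, pullback.condition]
      exact (pullback.snd T.1.ι S.1.ι z).2⟩
    choose V hzV hV using fun z => exists_invAff ρ T.2.1 (inf_le_left : T.1 ⊓ S.1 ≤ T.1) (k z)
      (fun g => ⟨T.2.2 g _ (hk z).1, S.2.2 g _ (hk z).2⟩) fun g y hy => ⟨T.2.2 g y hy.1, S.2.2 g y hy.2⟩
    refine ((pullback T.1.ι S.1.ι).openCoverOfIsOpenCover (fun z => k ⁻¹ᵁ (V z).1)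
      (IsOpenCover.mk (eq_top_iff.2 fun z _ => Opens.mem_iSup.2 ⟨z, hzV z⟩))).hom_ext _ _ fun z => ?_
    show (k ⁻¹ᵁ (V z).1).ι ≫ _ = (k ⁻¹ᵁ (V z).1).ι ≫ _
    let l := k ∣_ (V z).1
    have h1 : (k ⁻¹ᵁ (V z).1).ι ≫ pullback.fst T.1.ι S.1.ι =
        l ≫ X.homOfLE (U := (V z).1) (V := T.1) ((hV z).trans inf_le_left) := by
      rw [← cancel_mono T.1.ι, Category.assoc, Category.assoc, Scheme.homOfLE_ι, morphismRestrict_ι]
    have h2 : (k ⁻¹ᵁ (V z).1).ι ≫ pullback.snd T.1.ι S.1.ι =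
        l ≫ X.homOfLE (U := (V z).1) (V := S.1) ((hV z).trans inf_le_right) := by
      rw [← cancel_mono S.1.ι, Category.assoc, Category.assoc, Scheme.homOfLE_ι, morphismRestrict_ι,
        ← pullback.condition]
    rw [reassoc_of% h1, reassoc_of% h2]
    exact congrArg (l ≫ ·) ((hw _).symm.trans (hw _))
  have hp : ∀ T : InvAff ρ, T.1.ι ≫ p = T.q ≫ ι T := fun T => 𝒰.ι_glueMorphisms _ _ T
  have hinvT : ∀ (g : G) (T : InvAff ρ), T.1.ι ≫ (ρ g).hom ≫ p = T.1.ι ≫ p := fun g T => by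
    rw [← Category.assoc, ← InvAff.act_ι, Category.assoc, hp, ← Category.assoc, T.isQuot.inv]
  have hinv : ∀ g : G, (ρ g).hom ≫ p = p := fun g => 𝒰.hom_ext _ _ fun T => hinvT g T
  have hpre : ∀ T : InvAff ρ, p ⁻¹ᵁ (ι T).opensRange = T.1 := fun T => by
    ext x
    refine ⟨?_, fun hx => ⟨T.q ⟨x, hx⟩, congr($(hp T) ⟨x, hx⟩).symm⟩⟩
    rintro ⟨a, ha⟩
    obtain ⟨S, hxS⟩ := hcov x
    have e : ι T a = ι S (S.q ⟨x, hxS⟩) := ha.trans congr($(hp S) ⟨x, hxS⟩)
    obtain ⟨V, fT, fS, y, -, hy⟩ := (Scheme.IsLocallyDirected.ι_eq_ι_iff (F := quotDiagram ρ)).1 e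
    obtain ⟨v, rfl⟩ := surjective V.isQuot y
    have hy' : InvAff.map (leOfHom fS) (V.q v) = S.q ⟨x, hxS⟩ := hy
    rw [InvAff.map_q_apply] at hy'
    obtain ⟨g, hg⟩ := InvAff.orbit_val hy'
    rw [InvAff.homOfLE_val] at hg
    have hg' : (ρ g).hom v.1 = x := hg
    exact hg' ▸ leOfHom fT (V.2.2 g _ v.2)
  refine ⟨Y, p, isQuot_of_cover hinv (fun T : InvAff ρ => (ι T).opensRange) (fun y => ?_) fun T => ?_⟩
  · obtain ⟨T, a, ha⟩ := Scheme.IsLocallyDirected.ι_jointly_surjective (quotDiagram ρ) y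
    exact ⟨T, a, ha⟩
  let O := (ι T).opensRange
  haveI := T.isAffine
  let a : T.1.toScheme ≅ (p ⁻¹ᵁ O).toScheme := X.isoOfEq (hpre T).symm
  let b : T.Q ≅ O.toScheme := (ι T).isoOpensRange
  haveI : IsAffine (p ⁻¹ᵁ O).toScheme := .of_isIso a.inv
  haveI : IsAffine O.toScheme := .of_isIso b.inv
  have sq : a.hom ≫ (p ∣_ O) = T.q ≫ b.hom := by
    rw [← cancel_mono O.ι, Category.assoc, morphismRestrict_ι, Category.assoc,
      Scheme.Hom.isoOpensRange_hom_ι, ← hp, ← Category.assoc, Scheme.isoOfEq_hom_ι]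
  have heq : ∀ g, (T.act g).hom ≫ a.hom = a.hom ≫ (restrictAct hinv O g).hom := fun g => by
    rw [← cancel_mono (p ⁻¹ᵁ O).ι, Category.assoc, Category.assoc, restrictAct_ι, Scheme.isoOfEq_hom_ι,
      InvAff.act_ι, Scheme.isoOfEq_hom_ι_assoc]
  have happ : (p ∣_ O).appTop = b.hom.appTop ≫ T.q.appTop ≫ a.inv.appTop := by
    rw [← Scheme.Hom.comp_appTop, ← Scheme.Hom.comp_appTop]
    congr 1
    rw [Category.assoc, ← sq, Iso.inv_hom_id_assoc]
  haveI : IsIso b.hom.appTop := ⟨b.inv.appTop, by rw [← Scheme.Hom.comp_appTop, b.inv_hom_id, Scheme.Hom.id_appTop],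
    by rw [← Scheme.Hom.comp_appTop, b.hom_inv_id, Scheme.Hom.id_appTop]⟩
  haveI : IsIso a.inv.appTop := ⟨a.hom.appTop, by rw [← Scheme.Hom.comp_appTop, a.hom_inv_id, Scheme.Hom.id_appTop],
    by rw [← Scheme.Hom.comp_appTop, a.inv_hom_id, Scheme.Hom.id_appTop]⟩
  have hbi : Function.Bijective b.hom.appTop.hom := ConcreteCategory.bijective_of_isIso _
  have hai : Function.Bijective a.inv.appTop.hom := ConcreteCategory.bijective_of_isIso _
  refine isQuot_of_affine (fun g => ?_) ?_ fun s hs => ?_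
  · rw [← cancel_mono O.ι, Category.assoc, morphismRestrict_ι, ← Category.assoc, restrictAct_ι, Category.assoc, hinv]
  · rw [happ]
    exact hai.1.comp ((show Function.Injective T.q.appTop.hom from T.isQuot.injective ⊤).comp hbi.1)
  · obtain ⟨t, ht⟩ := appTop_mem_range T.isQuot (a.hom.appTop.hom s) fun g => by
      rw [← CommRingCat.comp_apply, ← Scheme.Hom.comp_appTop, heq, Scheme.Hom.comp_appTop, CommRingCat.comp_apply, hs]
    obtain ⟨t', rfl⟩ := hbi.2 t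
    refine ⟨t', ?_⟩
    rw [happ, CommRingCat.comp_apply, CommRingCat.comp_apply, ht, ← CommRingCat.comp_apply,
      ← Scheme.Hom.comp_appTop, Iso.inv_hom_id]
    simp

end QuotLib
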