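import Groth.Prelude.Def_SGA1
import Groth.Agent.ProjQuotLib.Basis
import Mathlib.AlgebraicGeometry.AffineScheme

/-!
# Quotients of affine schemes by finite groups: criterion on global sections
-/

noncomputable section

universe u

open CategoryTheory AlgebraicGeometry TopologicalSpace Opposite
open Groth.Agent.ProjQuot (app_restrict appLE_restrict isQuot_of_basis)

namespace QuotLib

variable {X Y : Scheme.{u}}

/-- Restriction of a global section. -/
abbrev res (V : X.Opens) : Γ(X, ⊤) ⟶ Γ(X, V) := X.presheaf.map (homOfLE (le_top : V ≤ ⊤)).op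

/-- Sections on a basic open of an affine scheme. -/
theorem basicOpen_facts [IsAffine X] (c : Γ(X, ⊤)) {V : X.Opens} (e : V = X.basicOpen c) :
    IsUnit ((res V).hom c) ∧
      (∀ s : Γ(X, V), ∃ (n : ℕ) (a : Γ(X, ⊤)), s * (res V).hom c ^ n = (res V).hom a) ∧
      ∀ a b : Γ(X, ⊤), (res V).hom a = (res V).hom b → ∃ m : ℕ, c ^ m * a = c ^ m * b := by
  subst e
  haveI := (isAffineOpen_top X).isLocalization_basicOpen c
  refine ⟨IsLocalization.Away.algebraMap_isUnit (S := Γ(X, X.basicOpen c)) c, fun s => ?_, fun a b h => ?_⟩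
  · obtain ⟨n, a, h⟩ := IsLocalization.Away.surj c s
    exact ⟨n, a, h⟩
  · obtain ⟨⟨_, m, rfl⟩, hm⟩ := (IsLocalization.eq_iff_exists (Submonoid.powers c) Γ(X, X.basicOpen c)).1 h
    exact ⟨m, hm⟩

variable {G : Type u} [Group G]

omit [Group G] in
theorem appTop_eq_appLE {X Y : Scheme.{u}} (f : X ⟶ Y) (e) : f.appLE ⊤ ⊤ e = f.appTop := by
  rw [Scheme.Hom.appTop, Scheme.Hom.app_eq_appLE]
  rfl

variable {ρ : G →* Aut X} {p : X ⟶ Y}

theorem appTop_inv (hinv : ∀ g : G, (ρ g).hom ≫ p = p) (g : G) (b : Γ(Y, ⊤)) :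
    (ρ g).hom.appTop.hom (p.appTop.hom b) = p.appTop.hom b := by
  rw [← CommRingCat.comp_apply, ← Scheme.Hom.comp_appTop, hinv g]

/-- Global criterion: for affine `X`, `Y` it suffices that `Γ(Y) ≅ Γ(X)^G`. -/
theorem isQuot_of_affine [Finite G] [IsAffine X] [IsAffine Y] (hinv : ∀ g : G, (ρ g).hom ≫ p = p)
    (hinj : Function.Injective p.appTop.hom)
    (hsurj : ∀ s : Γ(X, ⊤), (∀ g : G, (ρ g).hom.appTop.hom s = s) → s ∈ Set.range p.appTop.hom) :
    SGA1.IsQuot ρ p := by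
  classical
  refine isQuot_of_basis (Set.range (Y.basicOpen : Γ(Y, ⊤) → Y.Opens)) (isBasis_basicOpen Y) ?_
    (inferInstance) hinv ?_ ?_
  · rintro _ ⟨f, rfl⟩ _ ⟨g, rfl⟩
    exact ⟨f * g, Y.basicOpen_mul f g⟩
  · rintro _ ⟨b, rfl⟩ s t hst
    obtain ⟨hu, hs, hab⟩ := basicOpen_facts b (rfl : Y.basicOpen b = _)
    obtain ⟨-, -, hX⟩ := basicOpen_facts (p.appTop.hom b) (Scheme.preimage_basicOpen_top p b)
    obtain ⟨n, a, ha⟩ := hs s
    obtain ⟨n', a', ha'⟩ := hs t
    have key : ∀ x : Γ(Y, ⊤), (p.app (Y.basicOpen b)).hom ((res (Y.basicOpen b)).hom x) =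
        (res (p ⁻¹ᵁ Y.basicOpen b)).hom (p.appTop.hom x) := fun x => app_restrict p le_top x
    obtain ⟨m, hm⟩ := hX (p.appTop.hom (a * b ^ n')) (p.appTop.hom (a' * b ^ n)) (by
      rw [← key, ← key, map_mul, map_mul (res (Y.basicOpen b)).hom, ← ha, ← ha', map_pow, map_pow]
      simp only [map_mul, map_pow, hst]
      ring)
    have h2 := congrArg (res (Y.basicOpen b)).hom (hinj (a₁ := b ^ m * (a * b ^ n')) (a₂ := b ^ m * (a' * b ^ n))
      (by simpa only [map_mul, map_pow] using hm))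
    simp only [map_mul, map_pow, ← ha, ← ha'] at h2
    refine ((hu.pow n').mul (hu.pow n)).mul_left_cancel ((hu.pow m).mul_left_cancel ?_)
    linear_combination h2
  · rintro _ ⟨b, rfl⟩
    obtain ⟨huY, -, -⟩ := basicOpen_facts b (rfl : Y.basicOpen b = _)
    set V := p ⁻¹ᵁ Y.basicOpen b with hV
    set c := p.appTop.hom b with hc
    obtain ⟨huX, hX, hXeq⟩ := basicOpen_facts c (Scheme.preimage_basicOpen_top p b : V = X.basicOpen c)
    intro s hs'
    obtain ⟨n, a, ha⟩ := hX s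
    have hg : ∀ (g : G) (x : Γ(X, ⊤)), ((ρ g).hom.appLE V V (SGA1.preimage_le_of_inv ρ p hinv g _)).hom
        ((res V).hom x) = (res V).hom ((ρ g).hom.appTop.hom x) := fun g x => by
      rw [← appTop_eq_appLE (ρ g).hom (by simp)]
      exact appLE_restrict (ρ g).hom (by simp) _ le_top x
    have hm : ∀ g : G, ∃ m : ℕ, c ^ m * (ρ g).hom.appTop.hom a = c ^ m * a := fun g => by
      refine hXeq _ _ ?_
      have hsg : ((ρ g).hom.appLE V V (SGA1.preimage_le_of_inv ρ p hinv g _)).hom s = s := hs' g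
      rw [← hg, ← ha, map_mul, map_pow, hsg, hg, hc, appTop_inv hinv]
    choose m hm using hm
    haveI := Fintype.ofFinite G
    let M := Finset.univ.sum m
    obtain ⟨b', hb'⟩ := hsurj (c ^ M * a) fun g => by
      obtain ⟨k, hk⟩ : ∃ k, M = k + m g :=
        ⟨M - m g, (Nat.sub_add_cancel (Finset.single_le_sum (fun i _ => Nat.zero_le (m i)) (Finset.mem_univ g))).symm⟩
      rw [map_mul, map_pow, hc, appTop_inv hinv, ← hc, hk, pow_add, mul_assoc, mul_assoc, hm g]
    obtain ⟨v, hv⟩ := huY.pow (n + M)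
    refine ⟨(res (Y.basicOpen b)).hom b' * ↑v⁻¹, ?_⟩
    apply (huX.pow (n + M)).mul_left_cancel
    have key : ∀ x : Γ(Y, ⊤), (p.app (Y.basicOpen b)).hom ((res (Y.basicOpen b)).hom x) =
        (res V).hom (p.appTop.hom x) := fun x => app_restrict p le_top x
    have h3 : (res V).hom c ^ (n + M) = (p.app (Y.basicOpen b)).hom (v : Γ(Y, Y.basicOpen b)) := by
      rw [hv, map_pow, key]
    rw [h3, ← map_mul, show ∀ z : Γ(Y, Y.basicOpen b), (v : Γ(Y, Y.basicOpen b)) * (z * ↑v⁻¹) = z from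
      fun z => by rw [mul_left_comm, Units.mul_inv, mul_one], key, hb', ← h3, map_mul, map_pow, ← ha]
    ring

end QuotLib
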