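import Groth.Agent.QuotLib.Local
import Mathlib.AlgebraicGeometry.Morphisms.Flat
import Mathlib.RingTheory.Flat.Basic

/-!
# Quotients commute with flat base change
-/

noncomputable section

universe u

open CategoryTheory CategoryTheory.Limits AlgebraicGeometry TopologicalSpace Opposite
open scoped TensorProduct

namespace QuotLib

variable {X Y X' Y' : Scheme.{u}} {G : Type u} [Group G] [Finite G] {ρ : G →* Aut X} {p : X ⟶ Y}
  {qY : Y' ⟶ Y} {pX : X' ⟶ X} {p' : X' ⟶ Y'} {ρ' : G →* Aut X'}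

theorem isQuot_baseChange_affine [IsAffine X] [IsAffine Y] [IsAffine Y'] [Flat qY] (hp : SGA1.IsQuot ρ p)
    (hX : IsPullback pX p' p qY) (hρ₁ : ∀ g : G, (ρ' g).hom ≫ pX = pX ≫ (ρ g).hom)
    (hρ₂ : ∀ g : G, (ρ' g).hom ≫ p' = p') : SGA1.IsQuot ρ' p' := by
  classical
  haveI := hp.affine
  haveI : IsAffine X' := .of_isPullback hX.flip
  have hpo := (isPushout_appTop_of_isPullback hX).flip
  have hflat : qY.appTop.hom.Flat := ((HasRingHomProperty.iff_of_isAffine (P := @Flat)).1 ‹_›)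
  algebraize [qY.appTop.hom, p.appTop.hom, p'.appTop.hom, pX.appTop.hom, (pX.appTop.hom.comp p.appTop.hom)]
  have hw : ∀ r, p'.appTop.hom (qY.appTop.hom r) = pX.appTop.hom (p.appTop.hom r) := fun r => by
    rw [← CommRingCat.comp_apply, ← CommRingCat.comp_apply, hpo.w]
  haveI : IsScalarTower Γ(Y, ⊤) Γ(Y', ⊤) Γ(X', ⊤) := IsScalarTower.of_algebraMap_eq fun r => (hw r).symm
  haveI hP : Algebra.IsPushout Γ(Y, ⊤) Γ(Y', ⊤) Γ(X, ⊤) Γ(X', ⊤) :=
    CommRingCat.isPushout_iff_isPushout.1 hpo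
  let e := Algebra.IsPushout.equiv Γ(Y, ⊤) Γ(Y', ⊤) Γ(X, ⊤) Γ(X', ⊤)
  let act : G → Γ(X, ⊤) →ₗ[Γ(Y, ⊤)] Γ(X, ⊤) := fun g =>
    { (ρ g).hom.appTop.hom with
      map_smul' := fun r s => by
        show (ρ g).hom.appTop.hom (p.appTop.hom r * s) = p.appTop.hom r * (ρ g).hom.appTop.hom s
        rw [map_mul, appTop_inv hp.inv] }
  have hact : ∀ g z, (ρ' g).hom.appTop.hom (e z) = e ((act g).lTensor Γ(Y', ⊤) z) := fun g z => by
    induction z using TensorProduct.induction_on with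
    | zero => simp
    | add z w hz hw => simp [map_add, hz, hw]
    | tmul b s =>
      rw [LinearMap.lTensor_tmul]
      simp only [e, Algebra.IsPushout.equiv_tmul, map_mul]
      congr 1
      · exact appTop_inv hρ₂ g b
      · show (ρ' g).hom.appTop.hom (pX.appTop.hom s) = pX.appTop.hom ((ρ g).hom.appTop.hom s)
        rw [← CommRingCat.comp_apply, ← CommRingCat.comp_apply, ← Scheme.Hom.comp_appTop, ← Scheme.Hom.comp_appTop, hρ₁]
  have hone : ∀ b : Γ(Y', ⊤), p'.appTop.hom b =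
      e ((Algebra.linearMap Γ(Y, ⊤) Γ(X, ⊤)).lTensor Γ(Y', ⊤) (b ⊗ₜ 1)) := fun b => by
    rw [LinearMap.lTensor_tmul, Algebra.linearMap_apply, map_one, Algebra.IsPushout.equiv_tmul, map_one, mul_one]
    rfl
  have hinjA : Function.Injective (Algebra.linearMap Γ(Y, ⊤) Γ(X, ⊤)) := hp.injective ⊤
  refine isQuot_of_affine hρ₂ (fun a b h => ?_) fun z hz => ?_
  · rw [hone, hone] at h
    have := (Module.Flat.lTensor_preserves_injective_linearMap _ hinjA) (e.injective h)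
    have h2 := congrArg (TensorProduct.rid Γ(Y, ⊤) Γ(Y', ⊤)) this
    simpa using h2
  · haveI := Fintype.ofFinite G
    let d : Γ(X, ⊤) →ₗ[Γ(Y, ⊤)] G → Γ(X, ⊤) := LinearMap.pi fun g => act g - LinearMap.id
    have hex : Function.Exact (Algebra.linearMap Γ(Y, ⊤) Γ(X, ⊤)) d := fun s => by
      refine ⟨fun hs => ?_, ?_⟩
      · obtain ⟨t, ht⟩ := appTop_mem_range hp s fun g => sub_eq_zero.1 (congrFun hs g)
        exact ⟨t, ht⟩
      · rintro ⟨t, rfl⟩
        exact funext fun g => sub_eq_zero.2 (appTop_inv hp.inv g t)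
    have hex' := Module.Flat.lTensor_exact Γ(Y', ⊤) hex
    obtain ⟨w, rfl⟩ := e.surjective z
    have hdw : d.lTensor Γ(Y', ⊤) w = 0 := by
      apply (TensorProduct.piRight Γ(Y, ⊤) Γ(Y, ⊤) Γ(Y', ⊤) fun _ : G => Γ(X, ⊤)).injective
      rw [map_zero]
      funext g
      have h1 : ∀ w, (TensorProduct.piRight Γ(Y, ⊤) Γ(Y, ⊤) Γ(Y', ⊤) fun _ : G => Γ(X, ⊤)) (d.lTensor Γ(Y', ⊤) w) g =
          (act g).lTensor Γ(Y', ⊤) w - w := fun w => by
        induction w using TensorProduct.induction_on with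
        | zero => simp
        | add z w hz hw => simp only [map_add, Pi.add_apply, hz, hw]; abel
        | tmul b s => simp [d, TensorProduct.tmul_sub]
      rw [h1, Pi.zero_apply, sub_eq_zero]
      exact e.injective ((hact g w).symm.trans (hz g))
    obtain ⟨v, rfl⟩ := (hex' w).1 hdw
    refine ⟨TensorProduct.rid Γ(Y, ⊤) Γ(Y', ⊤) v, ?_⟩
    rw [hone]
    congr 2
    exact (TensorProduct.rid Γ(Y, ⊤) Γ(Y', ⊤)).symm_apply_apply v

/-- Quotients commute with flat base change. -/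
theorem isQuot_baseChange [Flat qY] (hp : SGA1.IsQuot ρ p)
    (hX : IsPullback pX p' p qY) (hρ₁ : ∀ g : G, (ρ' g).hom ≫ pX = pX ≫ (ρ g).hom)
    (hρ₂ : ∀ g : G, (ρ' g).hom ≫ p' = p') : SGA1.IsQuot ρ' p' := by
  choose U hU hyU _ using fun y : Y' => exists_affine (show qY y ∈ (⊤ : Y.Opens) from trivial)
  choose U' hU' hyU' hle using fun y : Y' => exists_affine (show y ∈ qY ⁻¹ᵁ U y from hyU y)
  refine isQuot_of_cover hρ₂ U' (fun y => ⟨y, hyU' y⟩) fun y => ?_
  haveI : IsAffine (U y).toScheme := hU y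
  haveI : IsAffine (U' y).toScheme := hU' y
  haveI := isAffine_preimage hp (hU y)
  have hle2 : p' ⁻¹ᵁ U' y ≤ pX ⁻¹ᵁ (p ⁻¹ᵁ U y) := by
    intro x hx
    show p (pX x) ∈ U y
    rw [← Scheme.Hom.comp_apply, hX.w, Scheme.Hom.comp_apply]
    exact hle y hx
  haveI : Flat (qY.resLE (U y) (U' y) (hle y)) :=
    IsZariskiLocalAtSource.resLE (P := @Flat) (hle y) ‹_›
  have hsq : IsPullback (pX.resLE (p ⁻¹ᵁ U y) (p' ⁻¹ᵁ U' y) hle2) (p' ∣_ U' y) (p ∣_ U y)
      (qY.resLE (U y) (U' y) (hle y)) := by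
    refine IsPullback.of_right (h₁₂ := (p ⁻¹ᵁ U y).ι) (v₁₃ := p) (h₂₂ := (U y).ι) ?_ ?_
      (isPullback_morphismRestrict p (U y)).flip
    · rw [Scheme.Hom.resLE_comp_ι, Scheme.Hom.resLE_comp_ι]
      exact (isPullback_morphismRestrict p' (U' y)).flip.paste_horiz hX
    · rw [← cancel_mono (U y).ι, Category.assoc, Category.assoc, morphismRestrict_ι, Scheme.Hom.resLE_comp_ι,
        Scheme.Hom.resLE_comp_ι_assoc, morphismRestrict_ι_assoc, hX.w]
  refine isQuot_baseChange_affine (isQuot_restrictAct hp (U y)) hsq (fun g => ?_) fun g => ?_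
  · rw [← cancel_mono (p ⁻¹ᵁ U y).ι, Category.assoc, Category.assoc, Scheme.Hom.resLE_comp_ι, restrictAct_ι,
      Scheme.Hom.resLE_comp_ι_assoc, ← Category.assoc, restrictAct_ι, Category.assoc, hρ₁]
  · rw [← cancel_mono (U' y).ι, Category.assoc, morphismRestrict_ι, ← Category.assoc, restrictAct_ι,
      Category.assoc, hρ₂]

end QuotLib
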