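import Groth.Agent.QuotLib.Props
import Mathlib

/-!
# Geometric orbits of quotients and universal injectivity
-/

set_option autoImplicit false
set_option linter.style.haveILetI false
set_option linter.unusedSectionVars false
set_option backward.isDefEq.respectTransparency false
set_option backward.isDefEq.respectTransparency.types false

universe u

open CategoryTheory CategoryTheory.Limits AlgebraicGeometry TopologicalSpace Polynomial

namespace QuotLib

theorem ringHom_flat_of_field {A B : Type u} [Field A] [CommRing B] (ψ : A →+* B) : ψ.Flat := by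
  letI := ψ.toAlgebra
  exact RingHom.flat_algebraMap_iff.2 inferInstance

theorem exists_twist {A K : Type*} [CommRing A] [CommRing K] [IsDomain K] {G : Type*} [Group G] [Finite G]
    [MulSemiringAction G A] (φ ψ : A →+* K) (h : ∀ a : A, (∀ g : G, g • a = a) → φ a = ψ a) :
    ∃ g : G, ∀ a, ψ a = φ (g • a) := by
  classical
  haveI := Fintype.ofFinite G
  have key : ∀ a : List A, ∃ g : G, ∀ x ∈ a, ψ x = φ (g • x) := fun a => by
    let b : A[X] := ∑ i : Fin a.length, C a[i] * X ^ (i : ℕ)
    let act : G → A[X] →+* A[X] := fun g => mapRingHom (MulSemiringAction.toRingHom G A g)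
    let P : A[X][X] := ∏ g : G, (X - C (act g b))
    have hP : ∀ (i j : ℕ), φ ((P.coeff i).coeff j) = ψ ((P.coeff i).coeff j) := fun i j => h _ fun g => by
      have hg : P.map (act g) = P := by
        simp only [P, Polynomial.map_prod, Polynomial.map_sub, map_X, map_C]
        refine Fintype.prod_equiv (Equiv.mulLeft g) _ _ fun g' => ?_
        congr 2
        ext m
        simp [act, mul_smul]
      conv_rhs => rw [← hg]
      simp [act, coeff_map]
    have e : P.map (mapRingHom φ) = P.map (mapRingHom ψ) := by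
      ext i j
      simpa [coeff_map] using hP i j
    have e2 := congrArg (Polynomial.eval (b.map ψ)) e
    have h0 : (P.map (mapRingHom ψ)).eval (b.map ψ) = 0 := by
      simp only [P, Polynomial.map_prod, Polynomial.map_sub, map_X, map_C, eval_prod, eval_sub, eval_X, eval_C]
      refine Finset.prod_eq_zero (Finset.mem_univ 1) ?_
      simp [act, Polynomial.map_map, show MulSemiringAction.toRingHom G A 1 = RingHom.id A from RingHom.ext fun x => one_smul G x]
    rw [h0] at e2
    simp only [P, Polynomial.map_prod, Polynomial.map_sub, map_X, map_C, eval_prod, eval_sub, eval_X, eval_C,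
      Finset.prod_eq_zero_iff, sub_eq_zero] at e2
    obtain ⟨g, -, hg⟩ := e2
    refine ⟨g, fun x hx => ?_⟩
    obtain ⟨i, rfl⟩ := List.get_of_mem hx
    have := congrArg (fun p => Polynomial.coeff p (i : ℕ)) hg
    simpa [b, act, coeff_map, coeff_C_mul, coeff_X_pow, Fin.val_inj, Finset.sum_ite_eq] using this
  by_contra! H
  choose a ha using H
  obtain ⟨g, hg⟩ := key ((Finset.univ : Finset G).toList.map a)
  exact ha g (hg _ (List.mem_map.2 ⟨g, by simp, rfl⟩))

variable {X Y : Scheme.{u}} {G : Type u} [Group G] [Finite G] {ρ : G →* Aut X} {p : X ⟶ Y}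

theorem geomOrbit_affine [IsAffine X] [IsAffine Y] (hp : SGA1.IsQuot ρ p) {L : Type u} [Field L]
    {x x' : Spec (CommRingCat.of L) ⟶ X} (h : x ≫ p = x' ≫ p) : ∃ g : G, x' = x ≫ (ρ g).hom := by
  letI := actTop ρ
  let φ (x : Spec (CommRingCat.of L) ⟶ X) : Γ(X, ⊤) →+* L := ((Scheme.ΓSpecIso _).hom.hom).comp x.appTop.hom
  obtain ⟨g, hg⟩ := exists_twist (G := G) (φ x) (φ x') fun a ha => by
    obtain ⟨b, rfl⟩ := appTop_mem_range hp a fun g => by
      have := ha g⁻¹
      change (ρ g⁻¹⁻¹).hom.appTop.hom a = a at this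
      rwa [inv_inv] at this
    show (Scheme.ΓSpecIso _).hom.hom ((p.appTop ≫ x.appTop).hom b) = (Scheme.ΓSpecIso _).hom.hom ((p.appTop ≫ x'.appTop).hom b)
    rw [← Scheme.Hom.comp_appTop, ← Scheme.Hom.comp_appTop, h]
  refine ⟨g⁻¹, ext_of_isAffine ?_⟩
  rw [Scheme.Hom.comp_appTop]
  refine CommRingCat.hom_ext (RingHom.ext fun a => ?_)
  exact (Scheme.ΓSpecIso _).commRingCatIsoToRingEquiv.injective (hg a)

/-- Field valued points with the same image in a quotient are conjugate. -/
theorem geomOrbit (hp : SGA1.IsQuot ρ p) {L : Type u} [Field L]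
    {x x' : Spec (CommRingCat.of L) ⟶ X} (h : x ≫ p = x' ≫ p) : ∃ g : G, x' = x ≫ (ρ g).hom := by
  obtain ⟨U, hU, hy, -⟩ := exists_affine (show p (x (IsLocalRing.closedPoint L)) ∈ (⊤ : Y.Opens) from trivial)
  haveI : IsAffine U.toScheme := hU
  haveI := isAffine_preimage hp hU
  haveI : Subsingleton ↥(Spec (CommRingCat.of L)) := inferInstanceAs (Subsingleton (PrimeSpectrum L))
  have hr : ∀ z : Spec (CommRingCat.of L) ⟶ X, p (z (IsLocalRing.closedPoint L)) ∈ U →
      Set.range z ⊆ Set.range (p ⁻¹ᵁ U).ι := fun z hz => by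
    rintro _ ⟨w, rfl⟩
    rw [Scheme.Opens.range_ι, Subsingleton.elim w (IsLocalRing.closedPoint L)]
    exact hz
  have hy' : p (x' (IsLocalRing.closedPoint L)) ∈ U := by
    rw [← Scheme.Hom.comp_apply, ← h, Scheme.Hom.comp_apply]; exact hy
  obtain ⟨g, hg⟩ := geomOrbit_affine (isQuot_restrictAct hp U) (x := IsOpenImmersion.lift _ x (hr x hy))
    (x' := IsOpenImmersion.lift _ x' (hr x' hy')) (by
      rw [← cancel_mono U.ι, Category.assoc, Category.assoc, morphismRestrict_ι, ← Category.assoc,
        IsOpenImmersion.lift_fac, ← Category.assoc, IsOpenImmersion.lift_fac, h])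
  refine ⟨g, ?_⟩
  have := congrArg (· ≫ (p ⁻¹ᵁ U).ι) hg
  simp only [IsOpenImmersion.lift_fac, Category.assoc, restrictAct_ι] at this
  rwa [IsOpenImmersion.lift_fac_assoc] at this

theorem universallyInjective_of_cover {P R Q : Scheme.{u}} (r : P ⟶ R) [Surjective r] (m : R ⟶ Q)
    (h : ∀ (L : Type u) [Field L] (x x' : Spec (CommRingCat.of L) ⟶ P), x ≫ r ≫ m = x' ≫ r ≫ m → x ≫ r = x' ≫ r) :
    UniversallyInjective m := by
  refine ((tfae_universallyInjective m).out 0 1).2 fun K hK y y' hyy => ?_
  letI : Field K := hK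
  haveI : Surjective (pullback.fst y r) := inferInstance
  haveI : Surjective (pullback.fst y' r) := inferInstance
  haveI : Surjective (pullback.fst (pullback.fst y r) (pullback.fst y' r)) :=
    inferInstance
  let Q' := pullback (pullback.fst y r) (pullback.fst y' r)
  obtain ⟨z, -⟩ := (pullback.fst (pullback.fst y r) (pullback.fst y' r) ≫ pullback.fst y r).surjective
    (IsLocalRing.closedPoint K)
  let t : Spec (CommRingCat.of (Q'.residueField z : Type u)) ⟶ Q' := Q'.fromSpecResidueField z
  let e := t ≫ pullback.fst (pullback.fst y r) (pullback.fst y' r) ≫ pullback.fst y r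
  let x := t ≫ pullback.fst (pullback.fst y r) (pullback.fst y' r) ≫ pullback.snd y r
  let x' := t ≫ pullback.snd (pullback.fst y r) (pullback.fst y' r) ≫ pullback.snd y' r
  have hx : x ≫ r = e ≫ y := by simp only [x, e, Category.assoc, ← pullback.condition (f := y) (g := r)]
  have hx' : x' ≫ r = e ≫ y' := by
    simp only [x', e, Category.assoc, ← pullback.condition (f := y') (g := r)]
    rw [pullback.condition_assoc (f := pullback.fst y r) (g := pullback.fst y' r)]
  have hrr := h _ x x' (by
    rw [← Category.assoc, ← Category.assoc, hx, hx', Category.assoc, Category.assoc]; exact congrArg (e ≫ ·) hyy)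
  rw [hx, hx'] at hrr
  haveI : Subsingleton ↥(Spec (CommRingCat.of K)) := inferInstanceAs (Subsingleton (PrimeSpectrum K))
  haveI : Surjective e := ⟨fun w => ⟨(IsLocalRing.closedPoint _), Subsingleton.elim _ _⟩⟩
  haveI : Flat e := by
    obtain ⟨φ, hφ⟩ := Spec.map_surjective e
    rw [← hφ, HasRingHomProperty.Spec_iff (P := @Flat)]
    exact ringHom_flat_of_field φ.hom
  haveI hepi := Flat.epi_of_flat_of_surjective e
  exact (cancel_epi e).1 hrr

end QuotLib
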