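import Groth.Agent.QuotLib.Restrict
import Mathlib.AlgebraicGeometry.Morphisms.Integral
import Mathlib.RingTheory.Invariant.Basic
import Mathlib.RingTheory.Ideal.GoingUp

/-!
# Basic properties of quotients: surjective, orbits, integral, categorical quotient
-/

noncomputable section

universe u

open CategoryTheory CategoryTheory.Limits AlgebraicGeometry TopologicalSpace Opposite
open scoped Pointwise

namespace QuotLib

variable {X Y Z : Scheme.{u}} {G : Type u} [Group G] {ρ : G →* Aut X} {p : X ⟶ Y}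

/-- The action on global sections. -/
abbrev actTop (ρ : G →* Aut X) : MulSemiringAction G Γ(X, ⊤) where
  smul g s := (ρ g⁻¹).hom.appTop.hom s
  one_smul s := by
    show (ρ 1⁻¹).hom.appTop.hom s = s
    rw [inv_one, map_one]
    show (𝟙 X : X ⟶ X).appTop.hom s = s
    rw [Scheme.Hom.id_appTop]; rfl
  mul_smul g h s := by
    show (ρ (g * h)⁻¹).hom.appTop.hom s = (ρ g⁻¹).hom.appTop.hom ((ρ h⁻¹).hom.appTop.hom s)
    rw [mul_inv_rev, map_mul]
    show ((ρ g⁻¹).hom ≫ (ρ h⁻¹).hom).appTop.hom s = _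
    rw [Scheme.Hom.comp_appTop]; rfl
  smul_zero g := map_zero _
  smul_add g := map_add _
  smul_one g := map_one _
  smul_mul g := map_mul _

section Affine

variable [Finite G] [IsAffine X] [IsAffine Y]

theorem appTop_mem_range (hp : SGA1.IsQuot ρ p) (s : Γ(X, ⊤))
    (hs : ∀ g : G, (ρ g).hom.appTop.hom s = s) : s ∈ Set.range p.appTop.hom := by
  refine (hp.range_iff ⊤ s).2 fun g => ?_
  rw [show (ρ g).hom.appLE (p ⁻¹ᵁ ⊤) (p ⁻¹ᵁ ⊤) _ = (ρ g).hom.appTop from appTop_eq_appLE _ _]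
  exact hs g

theorem isIntegral_appTop (hp : SGA1.IsQuot ρ p) : p.appTop.hom.IsIntegral := by
  letI := p.appTop.hom.toAlgebra
  letI := actTop ρ
  haveI : Algebra.IsInvariant Γ(Y, ⊤) Γ(X, ⊤) G := ⟨fun s hs => by
    obtain ⟨b, hb⟩ := appTop_mem_range hp s fun g => by
      have := hs g⁻¹
      change (ρ g⁻¹⁻¹).hom.appTop.hom s = s at this
      rwa [inv_inv] at this
    exact ⟨b, hb⟩⟩
  exact (Algebra.IsInvariant.isIntegral Γ(Y, ⊤) Γ(X, ⊤) G).isIntegral

theorem isIntegralHom_affine (hp : SGA1.IsQuot ρ p) : IsIntegralHom p := by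
  rw [HasAffineProperty.iff_of_isAffine (P := @IsIntegralHom)]
  exact ⟨inferInstance, isIntegral_appTop hp⟩

omit [Finite G] in
theorem isoSpec_apply (f : X ⟶ Y) (x : X) :
    (Y.isoSpec.hom (f x)).asIdeal = (X.isoSpec.hom x).asIdeal.comap f.appTop.hom := by
  have h := congr($(Scheme.isoSpec_hom_naturality f) x)
  rw [Scheme.Hom.comp_apply, Scheme.Hom.comp_apply] at h
  rw [← h]
  rfl

theorem surjective_affine (hp : SGA1.IsQuot ρ p) : Function.Surjective p := by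
  intro y
  letI := p.appTop.hom.toAlgebra
  haveI : Algebra.IsIntegral Γ(Y, ⊤) Γ(X, ⊤) := ⟨isIntegral_appTop hp⟩
  obtain ⟨Q, -, hQ, hQy⟩ := Ideal.exists_ideal_over_prime_of_isIntegral (Y.isoSpec.hom y).asIdeal (⊥ : Ideal Γ(X, ⊤))
    (fun b hb => by
      rw [Ideal.mem_comap, Ideal.mem_bot, ← map_zero (algebraMap Γ(Y, ⊤) Γ(X, ⊤))] at hb
      rw [hp.injective ⊤ hb]
      exact zero_mem _)
  refine ⟨X.isoSpec.inv ⟨Q, hQ⟩, (Y.isoSpec.hom.homeomorph).injective (PrimeSpectrum.ext ?_)⟩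
  change (Y.isoSpec.hom (p (X.isoSpec.inv ⟨Q, hQ⟩))).asIdeal = (Y.isoSpec.hom y).asIdeal
  have e : X.isoSpec.hom (X.isoSpec.inv ⟨Q, hQ⟩) = ⟨Q, hQ⟩ := by
    rw [← Scheme.Hom.comp_apply, Iso.inv_hom_id]; rfl
  rw [isoSpec_apply, e]
  exact hQy

theorem orbit_affine (hp : SGA1.IsQuot ρ p) {x x' : X} (h : p x = p x') : ∃ g : G, (ρ g).hom x = x' := by
  letI := p.appTop.hom.toAlgebra
  letI := actTop ρ
  haveI : SMulCommClass G Γ(Y, ⊤) Γ(X, ⊤) := ⟨fun g b s => by
    rw [Algebra.smul_def, Algebra.smul_def, smul_mul']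
    congr 1
    exact appTop_inv hp.inv g⁻¹ b⟩
  haveI : Algebra.IsInvariant Γ(Y, ⊤) Γ(X, ⊤) G := ⟨fun s hs => by
    obtain ⟨b, hb⟩ := appTop_mem_range hp s fun g => by
      have := hs g⁻¹
      change (ρ g⁻¹⁻¹).hom.appTop.hom s = s at this
      rwa [inv_inv] at this
    exact ⟨b, hb⟩⟩
  obtain ⟨g, hg⟩ := Algebra.IsInvariant.exists_smul_of_under_eq Γ(Y, ⊤) Γ(X, ⊤) G
    (X.isoSpec.hom x).asIdeal (X.isoSpec.hom x').asIdeal (by
      show Ideal.comap p.appTop.hom _ = Ideal.comap p.appTop.hom _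
      rw [← isoSpec_apply, ← isoSpec_apply, h])
  refine ⟨g, (X.isoSpec.hom.homeomorph).injective (PrimeSpectrum.ext ?_)⟩
  change (X.isoSpec.hom ((ρ g).hom x)).asIdeal = (X.isoSpec.hom x').asIdeal
  rw [isoSpec_apply, hg]
  ext s
  rw [Ideal.mem_comap, Ideal.mem_pointwise_smul_iff_inv_smul_mem]
  show _ ↔ (ρ g⁻¹⁻¹).hom.appTop.hom s ∈ _
  rw [inv_inv]

end Affine

variable [Finite G]

omit [Group G] [Finite G] in
theorem exists_affine {Y : Scheme.{u}} {y : Y} {W : Y.Opens} (h : y ∈ W) :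
    ∃ U : Y.Opens, IsAffineOpen U ∧ y ∈ U ∧ U ≤ W :=
  Opens.isBasis_iff_nbhd.1 Y.isBasis_affineOpens h

theorem isQuot_restrictAct (hp : SGA1.IsQuot ρ p) (U : Y.Opens) :
    SGA1.IsQuot (restrictAct hp.inv U) (p ∣_ U) :=
  isQuot_restrict hp U _ (restrictAct_ι hp.inv U)

theorem isAffine_preimage (hp : SGA1.IsQuot ρ p) {U : Y.Opens} (hU : IsAffineOpen U) :
    IsAffine (p ⁻¹ᵁ U).toScheme := by
  haveI := hp.affine
  exact hU.preimage p

theorem isIntegralHom (hp : SGA1.IsQuot ρ p) : IsIntegralHom p := by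
  refine IsZariskiLocalAtTarget.of_iSup_eq_top (P := @IsIntegralHom) (fun U : Y.affineOpens => U.1)
    (iSup_affineOpens_eq_top Y) fun U => ?_
  haveI : IsAffine U.1.toScheme := U.2
  haveI := isAffine_preimage hp U.2
  exact isIntegralHom_affine (isQuot_restrictAct hp U.1)

theorem surjective (hp : SGA1.IsQuot ρ p) : Function.Surjective p := by
  intro y
  obtain ⟨U, hU, hy, -⟩ := exists_affine (show y ∈ (⊤ : Y.Opens) from trivial)
  haveI : IsAffine U.toScheme := hU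
  haveI := isAffine_preimage hp hU
  obtain ⟨x, hx⟩ := surjective_affine (isQuot_restrictAct hp U) (⟨y, hy⟩ : U.toScheme)
  exact ⟨(p ⁻¹ᵁ U).ι x, by rw [← Scheme.Hom.comp_apply, ← morphismRestrict_ι, Scheme.Hom.comp_apply, hx]; rfl⟩

theorem orbit_iff (hp : SGA1.IsQuot ρ p) (x x' : X) : p x = p x' ↔ ∃ g : G, (ρ g).hom x = x' := by
  refine ⟨fun h => ?_, ?_⟩
  · obtain ⟨U, hU, hy, -⟩ := exists_affine (show p x ∈ (⊤ : Y.Opens) from trivial)
    haveI : IsAffine U.toScheme := hU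
    haveI := isAffine_preimage hp hU
    obtain ⟨g, hg⟩ := orbit_affine (isQuot_restrictAct hp U)
      (x := (⟨x, hy⟩ : (p ⁻¹ᵁ U).toScheme)) (x' := (⟨x', show p x' ∈ U from h ▸ hy⟩ : (p ⁻¹ᵁ U).toScheme))
      (U.ι.isOpenEmbedding.injective (by
        rw [← Scheme.Hom.comp_apply, ← Scheme.Hom.comp_apply, morphismRestrict_ι, Scheme.Hom.comp_apply,
          Scheme.Hom.comp_apply]
        exact h))
    refine ⟨g, ?_⟩
    have := congr($(restrictAct_ι hp.inv U g) (⟨x, hy⟩ : (p ⁻¹ᵁ U).toScheme))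
    rw [Scheme.Hom.comp_apply, Scheme.Hom.comp_apply, hg] at this
    exact this.symm
  · rintro ⟨g, rfl⟩
    rw [← Scheme.Hom.comp_apply, hp.inv]

theorem isQuotientMap (hp : SGA1.IsQuot ρ p) : Topology.IsQuotientMap p := by
  haveI := isIntegralHom hp
  exact IsClosedMap.isQuotientMap p.isClosedMap p.continuous (surjective hp)

/-- A quotient is an epimorphism of schemes. -/
theorem hom_ext (hp : SGA1.IsQuot ρ p) {a b : Y ⟶ Z} (h : p ≫ a = p ≫ b) : a = b := by
  have hbase : ∀ y, a y = b y := fun y => by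
    obtain ⟨x, rfl⟩ := surjective hp y
    rw [← Scheme.Hom.comp_apply, ← Scheme.Hom.comp_apply, h]
  have hloc : ∀ y : Y, ∃ U : Y.Opens, y ∈ U ∧ U.ι ≫ a = U.ι ≫ b := fun y => by
    obtain ⟨V, hV, hyV, -⟩ := exists_affine (show a y ∈ (⊤ : Z.Opens) from trivial)
    obtain ⟨U, hU, hyU, hUV⟩ := exists_affine (show y ∈ a ⁻¹ᵁ V from hyV)
    refine ⟨U, hyU, ?_⟩
    have ha : Set.range (U.ι ≫ a) ⊆ Set.range V.ι := by
      rintro _ ⟨z, rfl⟩
      rw [Scheme.Opens.range_ι]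
      exact hUV z.2
    have hb : Set.range (U.ι ≫ b) ⊆ Set.range V.ι := by
      rintro _ ⟨z, rfl⟩
      rw [Scheme.Opens.range_ι, Scheme.Hom.comp_apply, ← hbase]
      exact hUV z.2
    rw [← IsOpenImmersion.lift_fac V.ι _ ha, ← IsOpenImmersion.lift_fac V.ι _ hb]
    congr 1
    haveI : IsAffine V.toScheme := hV
    refine ext_of_isAffine (CommRingCat.hom_ext (RingHom.ext fun v => ?_))
    apply (isQuot_restrictAct hp U).injective ⊤
    show ((IsOpenImmersion.lift V.ι _ ha).appTop ≫ (p ∣_ U).appTop).hom v =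
      ((IsOpenImmersion.lift V.ι _ hb).appTop ≫ (p ∣_ U).appTop).hom v
    rw [← Scheme.Hom.comp_appTop, ← Scheme.Hom.comp_appTop]
    congr 3
    rw [← cancel_mono V.ι, Category.assoc, Category.assoc, IsOpenImmersion.lift_fac, IsOpenImmersion.lift_fac,
      ← Category.assoc, ← Category.assoc, morphismRestrict_ι, Category.assoc, Category.assoc, h]
  choose U hyU hU using hloc
  exact (Y.openCoverOfIsOpenCover U (IsOpenCover.mk (eq_top_iff.2 fun y _ => Opens.mem_iSup.2 ⟨y, hyU y⟩))).hom_ext _ _ hU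

/-- A quotient is a categorical quotient. -/
theorem exists_desc (hp : SGA1.IsQuot ρ p) (h : X ⟶ Z) (hh : ∀ g : G, (ρ g).hom ≫ h = h) :
    ∃ h' : Y ⟶ Z, p ≫ h' = h := by
  have hconst : ∀ x x', p x = p x' → h x = h x' := fun x x' e => by
    obtain ⟨g, rfl⟩ := (orbit_iff hp x x').1 e
    rw [← Scheme.Hom.comp_apply, hh]
  have hloc : ∀ y : Y, ∃ U : Y.Opens, y ∈ U ∧ ∃ m : U.toScheme ⟶ Z, (p ∣_ U) ≫ m = (p ⁻¹ᵁ U).ι ≫ h := fun y => by
    obtain ⟨x, rfl⟩ := surjective hp y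
    obtain ⟨V, hV, hxV, -⟩ := exists_affine (show h x ∈ (⊤ : Z.Opens) from trivial)
    have hopen : IsOpen (p '' (h ⁻¹' (V : Set Z))) := by
      rw [← (isQuotientMap hp).isOpen_preimage]
      convert (V.2.preimage h.continuous) using 1
      ext z
      exact ⟨fun ⟨w, hw, e⟩ => (hconst w z e ▸ hw : h z ∈ V), fun hz => ⟨z, hz, rfl⟩⟩
    obtain ⟨U, hU, hxU, hUV⟩ := exists_affine (show p x ∈ (⟨_, hopen⟩ : Y.Opens) from ⟨x, hxV, rfl⟩)
    refine ⟨U, hxU, ?_⟩
    have hr : Set.range ((p ⁻¹ᵁ U).ι ≫ h) ⊆ Set.range V.ι := by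
      rintro _ ⟨z, rfl⟩
      rw [Scheme.Opens.range_ι]
      obtain ⟨w, hw, e⟩ := hUV (show p z.1 ∈ U from z.2)
      exact (hconst w z.1 e ▸ hw : h z.1 ∈ V)
    haveI : IsAffine U.toScheme := hU
    haveI : IsAffine V.toScheme := hV
    haveI := isAffine_preimage hp hU
    let k := IsOpenImmersion.lift V.ι _ hr
    have hk : ∀ g, (restrictAct hp.inv U g).hom ≫ k = k := fun g => by
      rw [← cancel_mono V.ι, Category.assoc, IsOpenImmersion.lift_fac, ← Category.assoc, restrictAct_ι,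
        Category.assoc, hh]
    have hrange : ∀ v, k.appTop.hom v ∈ Set.range (p ∣_ U).appTop.hom := fun v =>
      appTop_mem_range (isQuot_restrictAct hp U) _ fun g => by
        rw [← CommRingCat.comp_apply, ← Scheme.Hom.comp_appTop, hk]
    choose ψ hψ using hrange
    have hinj : Function.Injective (p ∣_ U).appTop.hom := (isQuot_restrictAct hp U).injective ⊤
    let ψ' : Γ(V.toScheme, ⊤) ⟶ Γ(U.toScheme, ⊤) := CommRingCat.ofHom
      { toFun := ψ
        map_one' := hinj ((hψ _).trans ((map_one _).trans (map_one _).symm))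
        map_mul' := fun a b => hinj ((hψ _).trans ((map_mul _ a b).trans ((congrArg₂ (· * ·) (hψ a).symm (hψ b).symm).trans (map_mul _ _ _).symm)))
        map_zero' := hinj ((hψ _).trans ((map_zero _).trans (map_zero _).symm))
        map_add' := fun a b => hinj ((hψ _).trans ((map_add _ a b).trans ((congrArg₂ (· + ·) (hψ a).symm (hψ b).symm).trans (map_add _ _ _).symm))) }
    refine ⟨(U.toScheme.isoSpec.hom ≫ Spec.map ψ' ≫ V.toScheme.isoSpec.inv) ≫ V.ι, ?_⟩
    rw [← Category.assoc, show (p ⁻¹ᵁ U).ι ≫ h = k ≫ V.ι from (IsOpenImmersion.lift_fac _ _ _).symm]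
    congr 1
    rw [← Scheme.isoSpec_hom_naturality_assoc, ← Spec.map_comp_assoc,
      show ψ' ≫ (p ∣_ U).appTop = k.appTop from CommRingCat.hom_ext (RingHom.ext hψ),
      Scheme.isoSpec_hom_naturality_assoc, Iso.hom_inv_id, Category.comp_id]
  choose U hyU m hm using hloc
  let 𝒰 := Y.openCoverOfIsOpenCover U (IsOpenCover.mk (eq_top_iff.2 fun y _ => Opens.mem_iSup.2 ⟨y, hyU y⟩))
  have hcompat : ∀ i j : Y, pullback.fst (U i).ι (U j).ι ≫ m i = pullback.snd _ _ ≫ m j := fun i j => by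
    let W := U i ⊓ U j
    let q := pullback.fst (U i).ι (U j).ι ≫ (U i).ι
    have hq : Set.range q ⊆ Set.range W.ι := by
      rintro _ ⟨z, rfl⟩
      rw [Scheme.Opens.range_ι]
      refine ⟨(pullback.fst (U i).ι (U j).ι z).2, ?_⟩
      show q z ∈ U j
      simp only [q, pullback.condition, Scheme.Hom.comp_apply]
      exact (pullback.snd (U i).ι (U j).ι z).2
    have h1 : pullback.fst (U i).ι (U j).ι = IsOpenImmersion.lift W.ι q hq ≫ Y.homOfLE inf_le_left := by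
      rw [← cancel_mono (U i).ι, Category.assoc, Scheme.homOfLE_ι, IsOpenImmersion.lift_fac]
    have h2 : pullback.snd (U i).ι (U j).ι = IsOpenImmersion.lift W.ι q hq ≫ Y.homOfLE inf_le_right := by
      rw [← cancel_mono (U j).ι, Category.assoc, Scheme.homOfLE_ι, IsOpenImmersion.lift_fac]
      exact pullback.condition.symm
    rw [h1, h2, Category.assoc, Category.assoc]
    congr 1
    refine hom_ext (isQuot_restrictAct hp W) ?_
    have key : ∀ (k : Y) (hle : W ≤ U k), (p ∣_ W) ≫ Y.homOfLE hle ≫ m k = (p ⁻¹ᵁ W).ι ≫ h := fun k hle => by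
      have : (p ∣_ W) ≫ Y.homOfLE hle = X.homOfLE (Scheme.Hom.preimage_mono p hle) ≫ (p ∣_ U k) := by
        rw [← cancel_mono (U k).ι, Category.assoc, Category.assoc, Scheme.homOfLE_ι, morphismRestrict_ι,
          morphismRestrict_ι, Scheme.homOfLE_ι_assoc]
      rw [reassoc_of% this, hm, Scheme.homOfLE_ι_assoc]
    rw [key i inf_le_left, key j inf_le_right]
  refine ⟨𝒰.glueMorphisms m hcompat, ?_⟩
  refine (X.openCoverOfIsOpenCover (fun y => p ⁻¹ᵁ U y)
    (IsOpenCover.mk (eq_top_iff.2 fun x _ => Opens.mem_iSup.2 ⟨p x, hyU _⟩))).hom_ext _ _ fun y => ?_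
  show (p ⁻¹ᵁ U y).ι ≫ p ≫ _ = (p ⁻¹ᵁ U y).ι ≫ h
  rw [← morphismRestrict_ι_assoc, ← hm y]
  congr 1
  exact 𝒰.ι_glueMorphisms m hcompat y

end QuotLib
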