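import Groth.Agent.QuotLib.Props
import Mathlib.RingTheory.Adjoin.Tower
import Mathlib.AlgebraicGeometry.Morphisms.Finite
import Mathlib.AlgebraicGeometry.Noetherian

/-!
# Quotients: affineness, separatedness, finiteness
-/

noncomputable section

universe u

open CategoryTheory CategoryTheory.Limits AlgebraicGeometry TopologicalSpace Opposite

namespace QuotLib

variable {X Y Z : Scheme.{u}} {G : Type u} [Group G] [Finite G] {ρ : G →* Aut X} {p : X ⟶ Y}

/-- The affine quotient of an affine scheme exists. -/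
theorem exists_affine_quot [IsAffine X] (ρ : G →* Aut X) :
    ∃ (Y : Scheme.{u}) (p : X ⟶ Y), IsAffine Y ∧ SGA1.IsQuot ρ p := by
  let B : Subring Γ(X, ⊤) :=
    { carrier := {s | ∀ g : G, (ρ g).hom.appTop.hom s = s}
      one_mem' := fun g => map_one _
      mul_mem' := fun ha hb g => by rw [map_mul, ha g, hb g]
      zero_mem' := fun g => map_zero _
      add_mem' := fun ha hb g => by rw [map_add, ha g, hb g]
      neg_mem' := fun ha g => by rw [map_neg, ha g] }
  let p : X ⟶ Spec (CommRingCat.of B) := X.isoSpec.hom ≫ Spec.map (CommRingCat.ofHom B.subtype)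
  have htop : ∀ t : Γ(Spec (CommRingCat.of B), ⊤),
      p.appTop.hom t = ((Scheme.ΓSpecIso (CommRingCat.of B)).hom t : B).1 := fun t => by
    have e : p.appTop = (Scheme.ΓSpecIso (CommRingCat.of B)).hom ≫ CommRingCat.ofHom B.subtype := by
      simp only [p, Scheme.Hom.comp_appTop]
      rw [← Scheme.ΓSpecIso_naturality]
      congr 1
      simp [Scheme.isoSpec, Scheme.toSpecΓ_appTop]
      rfl
    rw [e]; rfl
  refine ⟨_, p, inferInstance, isQuot_of_affine (fun g => ?_) (fun a b h => ?_) fun s hs => ?_⟩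
  · simp only [p]
    rw [← Category.assoc, ← Scheme.isoSpec_hom_naturality, Category.assoc, ← Spec.map_comp]
    congr 2
    exact CommRingCat.hom_ext (RingHom.ext fun b => b.2 g)
  · rw [htop, htop] at h
    exact (ConcreteCategory.bijective_of_isIso (Scheme.ΓSpecIso (CommRingCat.of B)).hom).1 (Subtype.ext h)
  · refine ⟨(Scheme.ΓSpecIso (CommRingCat.of B)).inv ⟨s, hs⟩, ?_⟩
    rw [htop, show (Scheme.ΓSpecIso (CommRingCat.of B)).hom ((Scheme.ΓSpecIso (CommRingCat.of B)).inv ⟨s, hs⟩) =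
      (⟨s, hs⟩ : B) from ConcreteCategory.congr_hom (Scheme.ΓSpecIso (CommRingCat.of B)).inv_hom_id _]

/-- The target of a quotient of an affine scheme is affine. -/
theorem isAffine_target [IsAffine X] (hp : SGA1.IsQuot ρ p) : IsAffine Y := by
  obtain ⟨Y', p', hY', hp'⟩ := exists_affine_quot ρ
  obtain ⟨a, ha⟩ := exists_desc hp p' hp'.inv
  obtain ⟨b, hb⟩ := exists_desc hp' p hp.inv
  haveI : IsIso a := ⟨b, hom_ext hp (by rw [reassoc_of% ha, hb, Category.comp_id]),
    hom_ext hp' (by rw [reassoc_of% hb, ha, Category.comp_id])⟩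
  exact .of_isIso a

theorem isAffineHom_desc (hp : SGA1.IsQuot ρ p) (q : Y ⟶ Z) [IsAffineHom (p ≫ q)] : IsAffineHom q := by
  refine isAffineHom_iff q |>.2 fun V hV => ?_
  haveI : IsAffine (p ⁻¹ᵁ (q ⁻¹ᵁ V)).toScheme := hV.preimage (p ≫ q)
  exact isAffine_target (isQuot_restrictAct hp (q ⁻¹ᵁ V))

theorem isSeparated_desc (hp : SGA1.IsQuot ρ p) (q : Y ⟶ Z) [IsSeparated (p ≫ q)] : IsSeparated q := by
  refine ⟨IsClosedImmersion.of_isPreimmersion _ ?_⟩
  haveI := isIntegralHom hp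
  let m := pullback.map (p ≫ q) (p ≫ q) q q p p (𝟙 Z) (by simp) (by simp)
  haveI : IsIntegralHom m := MorphismProperty.pullbackMap (P := @IsIntegralHom) (isIntegralHom hp) (isIntegralHom hp) rfl rfl
  have e : pullback.diagonal (p ≫ q) ≫ m = p ≫ pullback.diagonal q := by
    apply pullback.hom_ext
    · dsimp only [m, pullback.map]
      erw [Category.assoc, pullback.lift_fst, Category.assoc, pullback.diagonal_fst, pullback.diagonal_fst_assoc]
      exact (Category.comp_id p).symm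
    · dsimp only [m, pullback.map]
      erw [Category.assoc, pullback.lift_snd, Category.assoc, pullback.diagonal_snd, pullback.diagonal_snd_assoc]
      exact (Category.comp_id p).symm
  have hr : Set.range (pullback.diagonal q) = m '' Set.range (pullback.diagonal (p ≫ q)) := by
    rw [← Set.range_comp]
    ext z
    constructor
    · rintro ⟨y, rfl⟩
      obtain ⟨x, rfl⟩ := surjective hp y
      exact ⟨x, by rw [Function.comp_apply, ← Scheme.Hom.comp_apply, e, Scheme.Hom.comp_apply]⟩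
    · rintro ⟨x, rfl⟩
      exact ⟨p x, by rw [Function.comp_apply, ← Scheme.Hom.comp_apply, ← e, Scheme.Hom.comp_apply]⟩
  rw [hr]
  exact m.isClosedMap _ (pullback.diagonal (p ≫ q)).isClosedEmbedding.isClosed_range

theorem isFinite_of_locallyOfFiniteType (hp : SGA1.IsQuot ρ p) (q : Y ⟶ Z) [LocallyOfFiniteType (p ≫ q)] :
    IsFinite p :=
  (IsFinite.iff_isIntegralHom_and_locallyOfFiniteType p).2 ⟨isIntegralHom hp, locallyOfFiniteType_of_comp p q⟩

theorem locallyOfFiniteType_desc (hp : SGA1.IsQuot ρ p) (q : Y ⟶ Z) [IsLocallyNoetherian Z]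
    [LocallyOfFiniteType (p ≫ q)] : LocallyOfFiniteType q := by
  haveI := isFinite_of_locallyOfFiniteType hp q
  refine HasRingHomProperty.iff_appLE.2 fun V U e => ?_
  haveI : IsNoetherianRing Γ(Z, V.1) := IsLocallyNoetherian.component_noetherian V
  have hA : IsAffineOpen (p ⁻¹ᵁ U.1) := U.2.preimage p
  have e' : p ⁻¹ᵁ U.1 ≤ (p ≫ q) ⁻¹ᵁ V.1 := fun x hx => e hx
  have hft : ((p ≫ q).appLE V.1 (p ⁻¹ᵁ U.1) e').hom.FiniteType :=
    HasRingHomProperty.appLE (P := @LocallyOfFiniteType) (p ≫ q) inferInstance V ⟨_, hA⟩ e'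
  have hfin : (p.app U.1).hom.Finite := IsFinite.finite_app p U.1 U.2
  rw [← Scheme.Hom.appLE_comp_appLE p q V.1 U.1 (p ⁻¹ᵁ U.1) e le_rfl, ← Scheme.Hom.app_eq_appLE] at hft
  algebraize [(q.appLE V.1 U.1 e).hom, (p.app U.1).hom, ((p.app U.1).hom.comp (q.appLE V.1 U.1 e).hom)]
  have hft' : Algebra.FiniteType Γ(Z, V.1) Γ(X, p ⁻¹ᵁ U.1) := hft
  show Algebra.FiniteType Γ(Z, V.1) Γ(Y, U.1)
  exact ⟨fg_of_fg_of_fg Γ(Z, V.1) Γ(Y, U.1) Γ(X, p ⁻¹ᵁ U.1) hft'.out (Module.Finite.fg_top (R := Γ(Y, U.1)))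
    (hp.injective U.1)⟩

theorem quasiCompact_desc (hp : SGA1.IsQuot ρ p) (q : Y ⟶ Z) [QuasiCompact (p ≫ q)] : QuasiCompact q := by
  refine ⟨fun U hU hUc => ?_⟩
  have : q ⁻¹' U = p '' ((p ≫ q) ⁻¹' U) := by
    ext y
    constructor
    · intro hy
      obtain ⟨x, rfl⟩ := surjective hp y
      exact ⟨x, hy, rfl⟩
    · rintro ⟨x, hx, rfl⟩
      exact hx
  rw [this]
  exact (QuasiCompact.isCompact_preimage (f := p ≫ q) U hU hUc).image p.continuous

end QuotLib
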