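import Groth.Agent.QuotLib.Affine
import Mathlib.AlgebraicGeometry.Restrict

/-!
# Restriction of a quotient to an open of the target
-/

noncomputable section

universe u

open CategoryTheory AlgebraicGeometry TopologicalSpace Opposite
open Groth.Agent.ProjQuot (appLE_restrict)

namespace QuotLib

variable {X Y : Scheme.{u}} {G : Type u} [Group G] {ρ : G →* Aut X} {p : X ⟶ Y}

omit [Group G] in
/-- A lift of an endomorphism to a stable open acts on sections as the endomorphism. -/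
theorem appLE_of_lift {W : X.Opens} (f : X ⟶ X) (f' : W.toScheme ⟶ W.toScheme) (h : f' ≫ W.ι = W.ι ≫ f)
    (A : W.toScheme.Opens) (hA : A ≤ f' ⁻¹ᵁ A) (hA' : W.ι ''ᵁ A ≤ f ⁻¹ᵁ (W.ι ''ᵁ A)) :
    f'.appLE A A hA = f.appLE (W.ι ''ᵁ A) (W.ι ''ᵁ A) hA' := by
  have h1 := Scheme.Hom.appLE_comp_appLE f' W.ι (W.ι ''ᵁ A) A A (W.ι.preimage_image_eq A).ge hA
  have h2 := Scheme.Hom.appLE_comp_appLE W.ι f (W.ι ''ᵁ A) (W.ι ''ᵁ A) A hA' (W.ι.preimage_image_eq A).ge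
  simp only [Scheme.Opens.ι_appLE] at h1 h2
  have hid : X.presheaf.map (homOfLE (le_refl (W.ι ''ᵁ A))).op = 𝟙 _ := X.presheaf.map_id _
  erw [hid, Category.id_comp] at h1
  erw [hid, Category.comp_id] at h2
  rw [h1, h2]
  simp only [h]

theorem isQuot_restrict (hp : SGA1.IsQuot ρ p) (U : Y.Opens) (ρU : G →* Aut (p ⁻¹ᵁ U).toScheme)
    (hρU : ∀ g : G, (ρU g).hom ≫ (p ⁻¹ᵁ U).ι = (p ⁻¹ᵁ U).ι ≫ (ρ g).hom) : SGA1.IsQuot ρU (p ∣_ U) := by
  haveI := hp.affine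
  have hinv : ∀ g : G, (ρU g).hom ≫ (p ∣_ U) = p ∣_ U := fun g => by
    rw [← cancel_mono U.ι, Category.assoc, morphismRestrict_ι, ← Category.assoc, hρU, Category.assoc, hp.inv]
  have happ : ∀ (W : U.toScheme.Opens) (t : Γ(U.toScheme, W)), ((p ∣_ U).app W).hom t =
      (X.presheaf.map (eqToHom (image_morphismRestrict_preimage p U W)).op).hom ((p.app (U.ι ''ᵁ W)).hom t) :=
    fun W t => by rw [morphismRestrict_app]; rfl
  have hbij : ∀ (A B : X.Opens) (e : A = B), Function.Bijective (X.presheaf.map (eqToHom e).op).hom :=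
    fun A B e => ConcreteCategory.bijective_of_isIso _
  refine ⟨IsZariskiLocalAtTarget.restrict hp.affine U, hinv, fun W a b hab => ?_, fun W => ?_⟩
  · rw [happ, happ] at hab
    exact hp.injective _ ((hbij _ _ _).1 hab)
  · set A := (p ∣_ U) ⁻¹ᵁ W with hA
    have e : (p ⁻¹ᵁ U).ι ''ᵁ A = p ⁻¹ᵁ (U.ι ''ᵁ W) := image_morphismRestrict_preimage p U W
    intro s
    obtain ⟨s', rfl⟩ := (hbij _ _ e).2 s
    have hg : ∀ g : G, ((ρU g).hom.appLE A A (SGA1.preimage_le_of_inv ρU (p ∣_ U) hinv g W)).hom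
        ((X.presheaf.map (eqToHom e).op).hom s') =
        (X.presheaf.map (eqToHom e).op).hom
          (((ρ g).hom.appLE _ _ (SGA1.preimage_le_of_inv ρ p hp.inv g (U.ι ''ᵁ W))).hom s') := fun g => by
      have hle : (p ⁻¹ᵁ U).ι ''ᵁ A ≤ (ρ g).hom ⁻¹ᵁ ((p ⁻¹ᵁ U).ι ''ᵁ A) := by
        rw [e]; exact SGA1.preimage_le_of_inv ρ p hp.inv g _
      rw [appLE_of_lift (ρ g).hom (ρU g).hom (hρU g) A _ hle]
      exact appLE_restrict (ρ g).hom _ hle e.le s'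
    constructor
    · rintro ⟨t, ht⟩ g
      rw [happ] at ht
      rw [hg g, (hp.range_iff _ s').1 ⟨t, (hbij _ _ e).1 ht⟩ g]
    · intro hs
      obtain ⟨t, ht⟩ := (hp.range_iff _ s').2 fun g => (hbij _ _ e).1 ((hg g).symm.trans (hs g))
      exact ⟨t, by rw [happ, ht]⟩

/-- The action restricted to the preimage of an open of the quotient. -/
def restrictAct (hinv : ∀ g : G, (ρ g).hom ≫ p = p) (U : Y.Opens) : G →* Aut (p ⁻¹ᵁ U).toScheme :=
  let f : G → ((p ⁻¹ᵁ U).toScheme ⟶ (p ⁻¹ᵁ U).toScheme) := fun g =>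
    IsOpenImmersion.lift (p ⁻¹ᵁ U).ι ((p ⁻¹ᵁ U).ι ≫ (ρ g).hom) (by
      rintro _ ⟨x, rfl⟩
      rw [Scheme.Opens.range_ι]
      have hx := SGA1.preimage_le_of_inv ρ p hinv g U x.2
      exact hx)
  have hf : ∀ g, f g ≫ (p ⁻¹ᵁ U).ι = (p ⁻¹ᵁ U).ι ≫ (ρ g).hom := fun g => IsOpenImmersion.lift_fac _ _ _
  have hmul : ∀ g h, f (g * h) = f h ≫ f g := fun g h => by
    rw [← cancel_mono (p ⁻¹ᵁ U).ι, hf, Category.assoc, hf, ← Category.assoc, hf, map_mul, Category.assoc]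
    rfl
  have hone : f 1 = 𝟙 _ := by
    rw [← cancel_mono (p ⁻¹ᵁ U).ι, hf, Category.id_comp, map_one]
    exact Category.comp_id _
  { toFun := fun g => ⟨f g, f g⁻¹, by rw [← hmul, inv_mul_cancel, hone], by rw [← hmul, mul_inv_cancel, hone]⟩
    map_one' := Iso.ext hone
    map_mul' := fun g h => Iso.ext (hmul g h) }

theorem restrictAct_ι (hinv : ∀ g : G, (ρ g).hom ≫ p = p) (U : Y.Opens) (g : G) :
    (restrictAct hinv U g).hom ≫ (p ⁻¹ᵁ U).ι = (p ⁻¹ᵁ U).ι ≫ (ρ g).hom :=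
  IsOpenImmersion.lift_fac _ _ _

end QuotLib
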